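import Groth.Agent.PlaneTwistLib.Smooth
import Groth.Prelude.Def_LefPen

/-!
# A non-degenerate quadratic form in every number of variables and every characteristic
-/

set_option autoImplicit false
set_option linter.style.haveILetI false
universe u
open MvPolynomial AlgebraicGeometry

noncomputable section

namespace Groth.Agent.OqsLib

variable {m : ℕ}

/-- The partner of a variable. -/
def partner (a : Fin (m + 1)) : Fin (m + 1) := if h : (a : ℕ) + 1 < m + 1 then ⟨a + 1, h⟩ else a

/-- The first members of the pairs. -/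
def evens (m : ℕ) : Finset (Fin (m + 1)) := Finset.univ.filter fun a => (a : ℕ) % 2 = 0

variable (k : Type u) [Field k]

/-- `T₀T₁ + T₂T₃ + ⋯`, with `T_m²` added when there is an odd number of variables. -/
def hypQuad (m : ℕ) : LefPen.Form m k 2 :=
  ⟨∑ a ∈ evens m, X a * X (partner a), (mem_homogeneousSubmodule _ _).2
    (IsHomogeneous.sum _ _ _ fun a _ => (isHomogeneous_X k a).mul (isHomogeneous_X k _))⟩

theorem exists_derivation_hypQuad (i : Fin (m + 1)) :
    ∃ δ : Derivation k (MvPolynomial (Fin m) k) (MvPolynomial (Fin m) k),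
      δ (PlaneTwistLib.chartEqn (hypQuad k m) i) - 1 ∈ Ideal.span {PlaneTwistLib.chartEqn (hypQuad k m) i} := by
  classical
  let dv : Fin (m + 1) → MvPolynomial (Fin m) k := PicProjLib.dehomVec m k i
  have hdvi : dv i = 1 := by simp [dv, PicProjLib.dehomVec]
  have hE : PlaneTwistLib.chartEqn (hypQuad k m) i = ∑ a ∈ evens m, dv a * dv (partner a) := by
    show aeval dv (∑ a ∈ evens m, X a * X (partner a)) = _
    simp [map_sum]
  have hw : ∀ w : Fin (m + 1) → MvPolynomial (Fin m) k, w i = 0 →
      ∀ a, mkDerivation k (fun l => w (i.succAbove l)) (dv a) = w a := by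
    intro w hwi a
    rcases Fin.eq_self_or_eq_succAbove i a with rfl | ⟨l, rfl⟩
    · rw [hdvi, Derivation.map_one_eq_zero, hwi]
    · simp [dv, PicProjLib.dehomVec]
  have hev : ∀ a, a ∈ evens m ↔ (a : ℕ) % 2 = 0 := fun a => by simp [evens]
  by_cases hlast : (i : ℕ) % 2 = 0 ∧ (i : ℕ) = m
  · let w : Fin (m + 1) → MvPolynomial (Fin m) k := fun a => if (a : ℕ) % 2 = 0 ∧ a ≠ i then -dv a else 0
    have hwi : w i = 0 := by simp [w]
    refine ⟨mkDerivation k fun l => w (i.succAbove l), ?_⟩
    have hi : i ∈ evens m := (hev i).2 hlast.1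
    have hpi : partner i = i := by
      simp only [partner]
      rw [dif_neg (by omega)]
    have key : mkDerivation k (fun l => w (i.succAbove l)) (PlaneTwistLib.chartEqn (hypQuad k m) i) =
        1 - PlaneTwistLib.chartEqn (hypQuad k m) i := by
      rw [hE, map_sum, ← Finset.add_sum_erase _ _ hi, ← Finset.add_sum_erase _ _ hi, hpi, hdvi, one_mul,
        Derivation.map_one_eq_zero, zero_add, sub_add_cancel_left, ← Finset.sum_neg_distrib]
      refine Finset.sum_congr rfl fun a ha => ?_
      rw [Derivation.leibniz, hw w hwi, hw w hwi, smul_eq_mul, smul_eq_mul]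
      obtain ⟨hai, hae⟩ := Finset.mem_erase.1 ha
      rw [hev] at hae
      have h1 : w a = -dv a := if_pos ⟨hae, hai⟩
      have hlt : (a : ℕ) + 1 < m + 1 := by
        have hne : (a : ℕ) ≠ m := fun h => hai (Fin.ext (h.trans hlast.2.symm))
        omega
      have h2 : w (partner a) = 0 := if_neg (by
        simp only [partner]
        rw [dif_pos hlt]
        simp only
        omega)
      rw [h1, h2]
      ring
    rw [key, sub_sub_cancel_left]
    exact neg_mem (Ideal.mem_span_singleton_self _)
  · -- `i` belongs to a pair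
    obtain ⟨a₀, ha₀, hai⟩ : ∃ a₀ : Fin (m + 1), (a₀ : ℕ) % 2 = 0 ∧ (a₀ : ℕ) + 1 < m + 1 ∧ (i = a₀ ∨ (i : ℕ) = a₀ + 1) := by
      have := i.2
      by_cases h : (i : ℕ) % 2 = 0
      · exact ⟨i, h, by omega, Or.inl rfl⟩
      · exact ⟨⟨(i : ℕ) - 1, by omega⟩, by simp only; omega, by simp only; omega, Or.inr (by simp only; omega)⟩
    obtain ⟨hlt, hi⟩ := hai
    let b₀ : Fin (m + 1) := ⟨a₀ + 1, hlt⟩
    let j : Fin (m + 1) := if i = a₀ then b₀ else a₀
    let w : Fin (m + 1) → MvPolynomial (Fin m) k := fun a => if a = j then 1 else 0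
    have hij : i ≠ j := by
      intro h
      by_cases h' : i = a₀
      · have := congrArg Fin.val (h'.symm.trans h)
        simp only [j, if_pos h', b₀] at this
        omega
      · exact h' (h.trans (if_neg h'))
    have hwi : w i = 0 := if_neg hij
    refine ⟨mkDerivation k fun l => w (i.succAbove l), ?_⟩
    have key : mkDerivation k (fun l => w (i.succAbove l)) (PlaneTwistLib.chartEqn (hypQuad k m) i) = 1 := by
      rw [hE, map_sum, Finset.sum_eq_single_of_mem a₀ ((hev _).2 ha₀) ?_]
      · rw [Derivation.leibniz, hw w hwi, hw w hwi, smul_eq_mul, smul_eq_mul]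
        have hp : partner a₀ = b₀ := by simp only [partner]; rw [dif_pos hlt]
        rw [hp]
        by_cases h' : i = a₀
        · subst h'
          have hne : i ≠ b₀ := fun h => by have := congrArg Fin.val h; simp only [b₀] at this; omega
          simp [w, j, hdvi, hne]
        · have hib : i = b₀ := Fin.ext (hi.resolve_left h')
          have hne : b₀ ≠ a₀ := fun h => h' (hib.trans h)
          simp [w, j, h', ← hib, hdvi]
      · intro a hae ha
        rw [hev] at hae
        rw [Derivation.leibniz, hw w hwi, hw w hwi, smul_eq_mul, smul_eq_mul]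
        have hjv : (j : ℕ) = a₀ + 1 ∨ (j : ℕ) = a₀ := by
          by_cases h' : i = a₀
          · left; simp [j, h', b₀]
          · right; simp [j, h']
        have hav : (a : ℕ) ≠ a₀ := fun h => ha (Fin.ext h)
        have h1 : w a = 0 := if_neg fun h => by have := congrArg Fin.val h; omega
        have h2 : w (partner a) = 0 := if_neg fun h => by
          have := congrArg Fin.val h
          simp only [partner] at this
          split_ifs at this <;> (try simp only at this) <;> omega
        rw [h1, h2]
        ring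
    rw [key, sub_self]
    exact zero_mem _

theorem hypQuad_ne_zero (m : ℕ) : (hypQuad k m).1 ≠ 0 := by
  intro h
  obtain ⟨δ, hδ⟩ := exists_derivation_hypQuad k (0 : Fin (m + 1))
  have hE : PlaneTwistLib.chartEqn (hypQuad k m) 0 = 0 := by
    show aeval _ (hypQuad k m).1 = 0
    rw [h, map_zero]
  rw [hE, map_zero, zero_sub, Ideal.span_singleton_eq_bot.2 rfl, Ideal.mem_bot, neg_eq_zero] at hδ
  exact one_ne_zero hδ

theorem nondegQuad_hypQuad (m : ℕ) : LefPen.NondegQuad k (hypQuad k m) :=
  ⟨hypQuad_ne_zero k m, Or.inr (PlaneTwistLib.smooth_of_derivation (hypQuad k m)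
    (fun h => hypQuad_ne_zero k m (by rw [h]; rfl)) (exists_derivation_hypQuad k))⟩

end Groth.Agent.OqsLib
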