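import Groth.Agent.OqsLib.Compl
import Groth.Agent.OqsLib.Quad
import Groth.Prelude.Def_LefPen
import Mathlib.AlgebraicGeometry.AffineScheme

/-!
# Ordinary quadratic points on affine pieces
-/

set_option autoImplicit false
set_option maxHeartbeats 600000
set_option backward.isDefEq.respectTransparency false
set_option backward.isDefEq.respectTransparency.types false
set_option linter.style.haveILetI false
universe u
open CategoryTheory AlgebraicGeometry IsLocalRing

noncomputable section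

namespace Groth.Agent.OqsLib

variable {k : Type u} [Field k] {A : Type u} [CommRing A] [Algebra k A]

/-- The completed local ring at a point of an affine piece, compatibly with `k`. -/
theorem exists_stalk_equiv (p : A →ₐ[k] k) {N : ℕ} (ψ : A →ₐ[k] MvPowerSeries (Fin N) k)
    (h1 : ∀ (a : A) (i : ℕ), ψ a ∈ maximalIdeal (MvPowerSeries (Fin N) k) ^ i ↔ a ∈ RingHom.ker p.toRingHom ^ i)
    (h2 : ∀ (g : MvPowerSeries (Fin N) k) (i : ℕ), ∃ a, ψ a - g ∈ maximalIdeal (MvPowerSeries (Fin N) k) ^ i)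
    [IsNoetherianRing A] (f : A) (hf : p f = 0) {Y : Scheme.{u}} (g : Y ⟶ Spec (CommRingCat.of k))
    (c : Spec (CommRingCat.of (A ⧸ Ideal.span {f})) ⟶ Y) [IsOpenImmersion c]
    (hc : c ≫ g = Spec.map (CommRingCat.ofHom ((Ideal.Quotient.mk (Ideal.span {f})).comp (algebraMap k A))))
    (P : PrimeSpectrum (A ⧸ Ideal.span {f})) (hP : P.asIdeal = (RingHom.ker p.toRingHom).map (Ideal.Quotient.mk (Ideal.span {f}))) :
    ∃ e : AdicCompletion (maximalIdeal (Y.presheaf.stalk (c P))) (Y.presheaf.stalk (c P)) ≃+*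
        MvPowerSeries (Fin N) k ⧸ Ideal.span {ψ f},
      ∀ r : k, e (algebraMap (Y.presheaf.stalk (c P)) _ (LefPen.toStalk k g (c P) r)) =
        Ideal.Quotient.mk _ (MvPowerSeries.C r) := by
  haveI : ((RingHom.ker p.toRingHom).map (Ideal.Quotient.mk (Ideal.span {f}))).IsPrime := hP ▸ P.2
  let B := A ⧸ Ideal.span {f}
  haveI hiso : IsIso (c.stalkMap P) := inferInstance
  let ρ : (Spec.structureSheaf B).presheaf.stalk P ≃+* Y.presheaf.stalk (c P) :=
    (asIso (c.stalkMap P)).symm.commRingCatIsoToRingEquiv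
  letI : Algebra B (Y.presheaf.stalk (c P)) := (ρ.toRingHom.comp (algebraMap B _)).toAlgebra
  haveI : IsLocalization.AtPrime (Y.presheaf.stalk (c P)) P.asIdeal :=
    IsLocalization.isLocalization_of_algEquiv P.asIdeal.primeCompl
      (AlgEquiv.ofRingEquiv (f := ρ) fun b => rfl)
  haveI : IsLocalization.AtPrime (Y.presheaf.stalk (c P))
      ((RingHom.ker p.toRingHom).map (Ideal.Quotient.mk (Ideal.span {f}))) := by
    have : IsLocalization.AtPrime (Y.presheaf.stalk (c P)) P.asIdeal := inferInstance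
    simpa only [hP] using this
  obtain ⟨e, he⟩ := exists_quot_equiv p ψ h1 h2 f hf (Y.presheaf.stalk (c P))
  refine ⟨e, fun r => ?_⟩
  have hr : LefPen.toStalk k g (c P) r = algebraMap B _ (Ideal.Quotient.mk _ (algebraMap k A r)) := by
    refine (ConcreteCategory.bijective_of_isIso (c.stalkMap P)).1 ?_
    have e2 : c.stalkMap P (algebraMap B (Y.presheaf.stalk (c P)) (Ideal.Quotient.mk _ (algebraMap k A r))) =
        algebraMap B ((Spec.structureSheaf B).presheaf.stalk P) (Ideal.Quotient.mk _ (algebraMap k A r)) :=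
      ρ.symm_apply_apply _
    rw [e2]
    show c.stalkMap P (Y.presheaf.germ ⊤ (c P) trivial (Coh.toGlobal g r)) = _
    rw [Scheme.Hom.germ_stalkMap_apply]
    have e3 : c.app ⊤ (Coh.toGlobal g r) = Coh.toGlobal (c ≫ g) r := rfl
    rw [e3, hc]
    show (Spec (CommRingCat.of B)).presheaf.germ ⊤ P trivial ((Spec.map (CommRingCat.ofHom _)).appTop
      ((Scheme.ΓSpecIso (CommRingCat.of k)).inv r)) = _
    rw [← CommRingCat.comp_apply (Scheme.ΓSpecIso (CommRingCat.of k)).inv, ← Scheme.ΓSpecIso_inv_naturality]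
    rfl
  rw [hr, he, AlgHom.commutes]
  rfl


/-- A point of an open affine piece cut by an equation starting with a non-degenerate quadratic form. -/
theorem ordQuad_of_affine_form (p : A →ₐ[k] k) {n : ℕ} (ψ : A →ₐ[k] MvPowerSeries (Fin (n + 1)) k)
    (h1 : ∀ (a : A) (i : ℕ), ψ a ∈ maximalIdeal (MvPowerSeries (Fin (n + 1)) k) ^ i ↔ a ∈ RingHom.ker p.toRingHom ^ i)
    (h2 : ∀ (g : MvPowerSeries (Fin (n + 1)) k) (i : ℕ), ∃ a, ψ a - g ∈ maximalIdeal (MvPowerSeries (Fin (n + 1)) k) ^ i)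
    [IsNoetherianRing A] (f : A) (Q₂ : LefPen.Form n k 2) (hQ : LefPen.NondegQuad k Q₂)
    (hf3 : ψ f - (Q₂.1 : MvPowerSeries (Fin (n + 1)) k) ∈ maximalIdeal (MvPowerSeries (Fin (n + 1)) k) ^ 3) (I : Ideal A)
    (hI : I = Ideal.span {f}) {Y : Scheme.{u}} (g : Y ⟶ Spec (CommRingCat.of k))
    (c : Spec (CommRingCat.of (A ⧸ I)) ⟶ Y) [IsOpenImmersion c]
    (hc : c ≫ g = Spec.map (CommRingCat.ofHom ((Ideal.Quotient.mk I).comp (algebraMap k A))))
    (P : PrimeSpectrum (A ⧸ I)) (hP : P.asIdeal = (RingHom.ker p.toRingHom).map (Ideal.Quotient.mk I))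
    (hclosed : IsClosed ({c P} : Set Y)) : LefPen.IsOrdQuadSing k n g (c P) := by
  subst hI
  have hord : ∀ e : Fin (n + 1) →₀ ℕ, e.degree < 3 →
      MvPowerSeries.coeff e (ψ f) = MvPolynomial.coeff e Q₂.1 := by
    intro e he
    have h0 : MvPowerSeries.coeff e (ψ f - (Q₂.1 : MvPowerSeries (Fin (n + 1)) k)) = 0 :=
      MvPowerSeries.coeff_of_lt_order (lt_of_lt_of_le (by exact_mod_cast he)
        (PSSmoothLib.pow_le_orderIdeal 3 hf3))
    rwa [map_sub, MvPolynomial.coeff_coe, sub_eq_zero] at h0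
  have hhom : Q₂.1.IsHomogeneous 2 := (MvPolynomial.mem_homogeneousSubmodule _ _).1 Q₂.2
  have hf : p f = 0 := by
    have h0 : MvPowerSeries.constantCoeff (ψ f) = 0 := by
      rw [← MvPowerSeries.coeff_zero_eq_constantCoeff_apply, hord 0 (by simp)]
      exact hhom.coeff_eq_zero (by simp)
    have h3 : ψ f ∈ maximalIdeal (MvPowerSeries (Fin (n + 1)) k) ^ 1 := by
      rw [pow_one]
      intro hu
      exact not_isUnit_zero (h0 ▸ MvPowerSeries.isUnit_iff_constantCoeff.1 hu)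
    have := (h1 f 1).1 h3
    rwa [pow_one] at this
  obtain ⟨e, he⟩ := exists_stalk_equiv p ψ h1 h2 f hf g c hc P hP
  exact ⟨hclosed, ψ f, Q₂, e, he, fun d hd => by
    rw [hord d (by omega)]
    exact hhom.coeff_eq_zero (by omega), fun d hd => (hord d (by omega)).symm, hQ⟩

/-- A point of an open affine piece cut by an equation starting with a non-degenerate quadratic form. -/
theorem ordQuad_of_affine (p : A →ₐ[k] k) {n : ℕ} (ψ : A →ₐ[k] MvPowerSeries (Fin (n + 1)) k)
    (h1 : ∀ (a : A) (i : ℕ), ψ a ∈ maximalIdeal (MvPowerSeries (Fin (n + 1)) k) ^ i ↔ a ∈ RingHom.ker p.toRingHom ^ i)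
    (h2 : ∀ (g : MvPowerSeries (Fin (n + 1)) k) (i : ℕ), ∃ a, ψ a - g ∈ maximalIdeal (MvPowerSeries (Fin (n + 1)) k) ^ i)
    [IsNoetherianRing A] (f : A)
    (hf3 : ψ f - ((hypQuad k n).1 : MvPowerSeries (Fin (n + 1)) k) ∈ maximalIdeal (MvPowerSeries (Fin (n + 1)) k) ^ 3) (I : Ideal A)
    (hI : I = Ideal.span {f}) {Y : Scheme.{u}} (g : Y ⟶ Spec (CommRingCat.of k))
    (c : Spec (CommRingCat.of (A ⧸ I)) ⟶ Y) [IsOpenImmersion c]
    (hc : c ≫ g = Spec.map (CommRingCat.ofHom ((Ideal.Quotient.mk I).comp (algebraMap k A))))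
    (P : PrimeSpectrum (A ⧸ I)) (hP : P.asIdeal = (RingHom.ker p.toRingHom).map (Ideal.Quotient.mk I))
    (hclosed : IsClosed ({c P} : Set Y)) : LefPen.IsOrdQuadSing k n g (c P) :=
  ordQuad_of_affine_form p ψ h1 h2 f (hypQuad k n) (nondegQuad_hypQuad k n) hf3 I hI g c hc P hP hclosed

end Groth.Agent.OqsLib
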