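import Groth.Agent.OqsLib.Cot
import Groth.Agent.S2099
import Groth.Agent.CplStalkLib.Main
import Groth.Agent.AnStalkLib.Abstract
import Groth.Agent.PurityLib.NotAffineAlg
import Groth.Agent.PSSmoothLib.Basic

/-!
# The completed local ring of a hypersurface in a smooth affine variety
-/

set_option autoImplicit false
set_option maxHeartbeats 600000
set_option backward.isDefEq.respectTransparency false
set_option linter.style.haveILetI false
universe u
open IsLocalRing

noncomputable section

namespace Groth.Agent.OqsLib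

variable {k : Type u} [Field k] {A : Type u} [CommRing A] [Algebra k A] [Algebra.Smooth k A]

local notation "PS" n => MvPowerSeries (Fin n) k

/-- Formal coordinates at a rational point. -/
theorem exists_coord (p : A →ₐ[k] k) (n : ℕ) (e : (RingHom.ker p.toRingHom).Cotangent ≃ₗ[k] (Fin n → k))
    [IsNoetherianRing A] :
    ∃ ψ : A →ₐ[k] MvPowerSeries (Fin n) k,
      (∀ (a : A) (i : ℕ), ψ a ∈ maximalIdeal (PS n) ^ i ↔ a ∈ RingHom.ker p.toRingHom ^ i) ∧
      ∀ (g : PS n) (i : ℕ), ∃ a, ψ a - g ∈ maximalIdeal (PS n) ^ i := by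
  obtain ⟨E⟩ := S2099.result p n e
  let m : Ideal A := RingHom.ker p.toRingHom
  let C := AdicCompletion m A
  have hm : m.FG := IsNoetherian.noetherian m
  have hev : ∀ (i : ℕ) (c : C), AdicCompletion.evalₐ m i c = 0 ↔ c ∈ (m ^ i).map (algebraMap A C) := by
    intro i c
    refine ⟨CplStalkLib.ker_evalₐ_le m hm i c, fun hc => ?_⟩
    have : (m ^ i).map (algebraMap A C) ≤ RingHom.ker (AdicCompletion.evalₐ m i).toRingHom :=
      Ideal.map_le_iff_le_comap.2 fun a ha => by
        show AdicCompletion.evalₐ m i (algebraMap A C a) = 0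
        rw [AlgHom.commutes]
        exact Ideal.Quotient.eq_zero_iff_mem.2 ha
    exact this hc
  have hmax : (m.map (algebraMap A C)).IsMaximal := by
    let θ : C →+* k := (Ideal.Quotient.lift (m ^ 1) p.toRingHom fun a ha => by rwa [pow_one] at ha).comp
      (AdicCompletion.evalₐ m 1).toRingHom
    have hθ' : ∀ (c : C) (a : A), AdicCompletion.evalₐ m 1 c = Ideal.Quotient.mk (m ^ 1) a → θ c = p a := by
      intro c a h
      show Ideal.Quotient.lift (m ^ 1) p.toRingHom (fun a ha => by rwa [pow_one] at ha) (AdicCompletion.evalₐ m 1 c) = p a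
      rw [h, Ideal.Quotient.lift_mk]
      rfl
    have hθ : Function.Surjective θ := fun c => ⟨algebraMap A C (algebraMap k A c),
      (hθ' _ (algebraMap k A c) (AlgHom.commutes _ _)).trans (p.commutes c)⟩
    have hk : RingHom.ker θ = m.map (algebraMap A C) := by
      ext c
      obtain ⟨a, ha⟩ := Ideal.Quotient.mk_surjective (AdicCompletion.evalₐ m 1 c)
      rw [show m.map (algebraMap A C) = (m ^ 1).map (algebraMap A C) by rw [pow_one], ← hev 1 c, ← ha,
        Ideal.Quotient.eq_zero_iff_mem, RingHom.mem_ker, hθ' c a ha.symm, pow_one]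
      exact Iff.rfl
    rw [← hk]
    exact RingHom.ker_isMaximal_of_surjective θ hθ
  haveI := hmax
  have hM : maximalIdeal (PS n) = (m.map (algebraMap A C)).map E.toRingEquiv :=
    (IsLocalRing.eq_maximalIdeal (Ideal.map_isMaximal_of_equiv E.toRingEquiv)).symm
  refine ⟨E.toAlgHom.comp (IsScalarTower.toAlgHom k A C), fun a i => ?_, fun g i => ?_⟩
  · rw [hM, ← Ideal.map_pow, ← Ideal.map_pow]
    show E.toRingEquiv (algebraMap A C a) ∈ _ ↔ _
    rw [Ideal.apply_mem_of_equiv_iff, ← hev, AlgHom.commutes]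
    exact Ideal.Quotient.eq_zero_iff_mem
  · obtain ⟨a, ha⟩ := Ideal.Quotient.mk_surjective (AdicCompletion.evalₐ m i (E.symm g))
    refine ⟨a, ?_⟩
    rw [hM, ← Ideal.map_pow, ← Ideal.map_pow]
    show E.toRingEquiv (algebraMap A C a) - g ∈ _
    rw [show g = E.toRingEquiv (E.symm g) from (E.apply_symm_apply g).symm, ← map_sub,
      Ideal.apply_mem_of_equiv_iff, ← hev, map_sub, AlgHom.commutes]
    exact sub_eq_zero.2 ha

omit [Algebra.Smooth k A] in
/-- The completed local ring of the zero locus of `f`. -/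
theorem exists_quot_equiv (p : A →ₐ[k] k) {n : ℕ} (ψ : A →ₐ[k] MvPowerSeries (Fin n) k)
    (h1 : ∀ (a : A) (i : ℕ), ψ a ∈ maximalIdeal (PS n) ^ i ↔ a ∈ RingHom.ker p.toRingHom ^ i)
    (h2 : ∀ (g : PS n) (i : ℕ), ∃ a, ψ a - g ∈ maximalIdeal (PS n) ^ i) [IsNoetherianRing A]
    (f : A) (hf : p f = 0)
    (R : Type u) [CommRing R] [IsLocalRing R] [Algebra (A ⧸ Ideal.span {f}) R]
    [((RingHom.ker p.toRingHom).map (Ideal.Quotient.mk (Ideal.span {f}))).IsPrime]
    [IsLocalization.AtPrime R ((RingHom.ker p.toRingHom).map (Ideal.Quotient.mk (Ideal.span {f})))] :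
    ∃ e : AdicCompletion (maximalIdeal R) R ≃+* (PS n) ⧸ Ideal.span {ψ f},
      ∀ a : A, e (algebraMap R _ (algebraMap (A ⧸ Ideal.span {f}) R (Ideal.Quotient.mk _ a))) =
        Ideal.Quotient.mk _ (ψ a) := by
  let m : Ideal A := RingHom.ker p.toRingHom
  let B := A ⧸ Ideal.span {f}
  let mB : Ideal B := m.map (Ideal.Quotient.mk (Ideal.span {f}))
  let M := maximalIdeal (PS n)
  have hQM : ψ f ∈ M := by
    have := (h1 f 1).2 (by rw [pow_one]; exact hf)
    rwa [pow_one] at this
  let T := (PS n) ⧸ Ideal.span {ψ f}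
  haveI : Nontrivial T := Ideal.Quotient.nontrivial_iff.2 fun h =>
    (maximalIdeal.isMaximal (PS n)).ne_top (eq_top_iff.2 (h.ge.trans ((Ideal.span_singleton_le_iff_mem _).2 hQM)))
  haveI : IsLocalRing T := IsLocalRing.of_surjective' (Ideal.Quotient.mk (Ideal.span {ψ f})) Ideal.Quotient.mk_surjective
  have hMT : M.map (Ideal.Quotient.mk (Ideal.span {ψ f})) = maximalIdeal T :=
    IsLocalRing.map_maximalIdeal_of_surjective _ Ideal.Quotient.mk_surjective
  let g0 : B →+* T := Ideal.quotientMap (Ideal.span {ψ f}) ψ.toRingHom (by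
    rw [Ideal.span_singleton_le_iff_mem, Ideal.mem_comap]
    exact Ideal.subset_span (Set.mem_singleton _))
  have hg0 : ∀ a, g0 (Ideal.Quotient.mk _ a) = Ideal.Quotient.mk _ (ψ a) := fun a => rfl
  have hunit : ∀ y : mB.primeCompl, IsUnit (g0 y) := by
    rintro ⟨y, hy⟩
    obtain ⟨a, rfl⟩ := Ideal.Quotient.mk_surjective y
    rw [hg0]
    refine IsUnit.map _ (by_contra fun hu => hy ?_)
    have := (h1 a 1).1 (by rw [pow_one]; exact hu)
    rw [pow_one] at this
    exact Ideal.mem_map_of_mem _ this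
  let φ : R →+* T := IsLocalization.lift (M := mB.primeCompl) hunit
  have hφ : ∀ a, φ (algebraMap B R (Ideal.Quotient.mk _ a)) = Ideal.Quotient.mk _ (ψ a) := fun a =>
    (IsLocalization.lift_eq hunit _).trans (hg0 a)
  have hR : maximalIdeal R = mB.map (algebraMap B R) := (IsLocalization.AtPrime.map_eq_maximalIdeal mB R).symm
  haveI : IsNoetherianRing R := IsLocalization.isNoetherianRing mB.primeCompl R inferInstance
  have hmap : (maximalIdeal R).map φ = maximalIdeal T := by
    rw [hR, Ideal.map_map]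
    show (m.map (Ideal.Quotient.mk (Ideal.span {f}))).map (φ.comp (algebraMap B R)) = _
    rw [Ideal.map_map, ← hMT,
      show (φ.comp (algebraMap B R)).comp (Ideal.Quotient.mk (Ideal.span {f})) =
        (Ideal.Quotient.mk (Ideal.span {ψ f})).comp ψ.toRingHom from RingHom.ext hφ, ← Ideal.map_map]
    congr 1
    refine le_antisymm (Ideal.map_le_iff_le_comap.2 fun a ha => ?_) ?_
    · have := (h1 a 1).2 (by rw [pow_one]; exact ha)
      rwa [pow_one] at this
    · refine Submodule.le_of_le_smul_of_le_jacobson_bot (I := M) (IsNoetherian.noetherian _)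
        (IsLocalRing.jacobson_eq_maximalIdeal ⊥ bot_ne_top).ge fun g hg => ?_
      obtain ⟨a, ha⟩ := h2 g 2
      rw [show g = ψ a + (g - ψ a) by ring]
      refine Submodule.add_mem_sup (Ideal.mem_map_of_mem _ ?_) ?_
      · have : ψ a ∈ M ^ 1 := by
          rw [pow_one, show ψ a = (ψ a - g) + g by ring]
          exact add_mem (Ideal.pow_le_self two_ne_zero ha) hg
        have := (h1 a 1).1 this
        rwa [pow_one] at this
      · rw [smul_eq_mul, ← pow_two, ← neg_sub]
        exact (M ^ 2).neg_mem ha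
  have hsc : AnStalkLib.SameCompl φ := by
    refine ⟨hmap, fun i b => ?_, fun i x hx => ?_⟩
    · obtain ⟨g, rfl⟩ := Ideal.Quotient.mk_surjective b
      obtain ⟨a, ha⟩ := h2 g i
      refine ⟨algebraMap B R (Ideal.Quotient.mk _ a), ?_⟩
      rw [hφ, ← map_sub, ← hMT, ← Ideal.map_pow]
      exact Ideal.mem_map_of_mem _ ha
    · obtain ⟨⟨y, s⟩, hxs⟩ := IsLocalization.surj mB.primeCompl x
      obtain ⟨a, rfl⟩ := Ideal.Quotient.mk_surjective y
      have h3 : φ (algebraMap B R (Ideal.Quotient.mk _ a)) ∈ maximalIdeal T ^ i := by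
        rw [← hxs, map_mul]
        exact Ideal.mul_mem_right _ _ hx
      rw [hφ, ← hMT, ← Ideal.map_pow, Ideal.mem_quotient_iff_mem_sup, Submodule.mem_sup] at h3
      obtain ⟨r, hr, z, hz, hrz⟩ := h3
      obtain ⟨g, rfl⟩ := Ideal.mem_span_singleton'.1 hz
      obtain ⟨c, hc⟩ := h2 g i
      have h4 : a - c * f ∈ m ^ i := by
        refine (h1 _ i).1 ?_
        rw [map_sub, map_mul, ← hrz, show r + g * ψ f - ψ c * ψ f = r - (ψ c - g) * ψ f by ring]
        exact sub_mem hr (Ideal.mul_mem_right _ _ hc)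
      have h5 : algebraMap B R (Ideal.Quotient.mk _ a) ∈ maximalIdeal R ^ i := by
        rw [hR, ← Ideal.map_pow]
        refine Ideal.mem_map_of_mem _ ?_
        rw [← Ideal.map_pow]
        have := Ideal.mem_map_of_mem (Ideal.Quotient.mk (Ideal.span {f})) h4
        rwa [map_sub, map_mul, Ideal.Quotient.eq_zero_iff_mem.2 (Ideal.mem_span_singleton_self f), mul_zero,
          sub_zero] at this
      rw [← hxs] at h5
      exact (Ideal.mul_unit_mem_iff_mem _ (IsLocalization.map_units R s)).1 h5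
  haveI : IsAdicComplete (maximalIdeal T) T := by
    haveI : IsHausdorff (maximalIdeal T) T := inferInstance
    haveI : IsHausdorff M T := IsHausdorff.map_algebraMap_iff.1 (by rw [Ideal.Quotient.algebraMap_eq, hMT]; infer_instance)
    have := PurityLib.isAdicComplete_finite (C := T) M
    rw [← hMT, ← Ideal.Quotient.algebraMap_eq]
    exact (IsAdicComplete.map_algebraMap_iff (S := T) _ _).2 this
  let e1 : T ≃+* AdicCompletion (maximalIdeal T) T := RingEquiv.ofBijective (algebraMap T _)
    ((AdicCompletion.of_bijective_iff (I := maximalIdeal T) (M := T)).2 inferInstance)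
  refine ⟨hsc.equiv.trans e1.symm, fun a => ?_⟩
  show e1.symm (hsc.cpl (algebraMap R _ _)) = _
  rw [← RingHom.comp_apply, hsc.cpl_comp, RingHom.comp_apply, hφ]
  exact e1.symm_apply_apply _

end Groth.Agent.OqsLib
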