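import Groth.Agent.LefDualLib.Cut

/-!
# The cotangent space of a smooth affine variety at a rational point
-/

set_option autoImplicit false
set_option maxHeartbeats 600000
set_option backward.isDefEq.respectTransparency false
set_option linter.style.haveILetI false
universe u
open TensorProduct KaehlerDifferential Module

noncomputable section

namespace Groth.Agent.OqsLib

open Groth.Agent.LefDualLib

variable {k : Type u} [Field k] {A : Type u} [CommRing A] [Algebra k A] [Algebra.Smooth k A]

theorem exists_cotangent_equiv {m r : ℕ} (x : Fin m → A)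
    (hx : Function.Surjective (MvPolynomial.aeval x : MvPolynomial (Fin m) k →ₐ[k] A))
    (hdim : ∀ P ∈ minimalPrimes A, ringKrullDim (A ⧸ P) = r) (p : A →ₐ[k] k) :
    Nonempty ((RingHom.ker p.toRingHom).Cotangent ≃ₗ[k] (Fin r → k)) := by
  classical
  let I : Ideal A := RingHom.ker p.toRingHom
  haveI : (RingHom.ker p.toRingHom).IsPrime := RingHom.ker_isPrime _
  obtain ⟨f, hf, -, ⟨b⟩⟩ := exists_chart_basis x hx hdim (RingHom.ker p.toRingHom)
  let T := Localization.Away f
  have hfu : IsUnit (p f) := isUnit_iff_ne_zero.2 fun h => hf h
  let pT : T →ₐ[k] k := IsLocalization.Away.liftAlgHom (S := T) f (f := p) hfu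
  have hpT : ∀ a, pT (algebraMap A T a) = p a := fun a => IsLocalization.Away.lift_eq f hfu a
  let δ : A →ₗ[k] (Fin r → k) :=
    { toFun := fun a l => pT (b.repr (D k T (algebraMap A T a)) l)
      map_add' := fun a c => funext fun l => by simp only [map_add, Finsupp.add_apply, Pi.add_apply]
      map_smul' := fun c a => funext fun l => by
        rw [RingHom.id_apply, Pi.smul_apply]
        rw [← IsScalarTower.coe_toAlgHom' k A T, map_smul, Derivation.map_smul,
          ← algebraMap_smul T c (D k T _), map_smul, Finsupp.smul_apply, smul_eq_mul, map_mul, AlgHom.commutes]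
        rfl }
  have hbT : IsBaseChange T (KaehlerDifferential.map k k A T) :=
    KaehlerDifferential.isBaseChange_of_formallyEtale k A T
  have hker : ∀ a ∈ I, δ a = 0 ↔ a ∈ I ^ 2 := by
    intro a ha
    constructor
    · intro h
      refine mem_sq_of_sing p ⟨ha, fun ψ => ?_⟩
      let ψT : Ω[T⁄k] →ₗ[T] T := hbT.lift ((Algebra.linearMap A T).comp ψ)
      have e1 : ψT (D k T (algebraMap A T a)) = algebraMap A T (ψ (D k A a)) := by
        rw [← KaehlerDifferential.map_D k k A T a]
        exact hbT.lift_eq _ _
      rw [← hpT, ← e1, ← b.sum_repr (D k T (algebraMap A T a)), map_sum, map_sum]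
      refine Finset.sum_eq_zero fun l _ => ?_
      rw [map_smul, smul_eq_mul, map_mul]
      exact mul_eq_zero_of_left (congrFun h l) _
    · intro h
      rw [pow_two] at h
      refine Submodule.mul_induction_on h (fun u hu v hv => funext fun l => ?_) fun u v hu hv => by rw [map_add, hu, hv, add_zero]
      show pT (b.repr (D k T (algebraMap A T (u * v))) l) = 0
      simp only [map_mul, Derivation.leibniz, map_add, map_smul, Finsupp.add_apply, Finsupp.smul_apply, smul_eq_mul, hpT]
      rw [show p u = 0 from hu, show p v = 0 from hv, zero_mul, zero_mul, add_zero]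
  let L0 : I →ₗ[k] (Fin r → k) := δ.comp (I.subtype.restrictScalars k)
  have hL0 : Function.Surjective L0 := by
    have hspanT : ∀ w : Ω[T⁄k], (fun l => pT (b.repr w l)) ∈ Submodule.span k (Set.range δ) := fun w => by
      have hw : w ∈ Submodule.span T (Set.range fun a : A => D k T (algebraMap A T a)) := by
        induction w using hbT.inductionOn with
        | zero => exact zero_mem _
        | tmul m =>
          have hm : m ∈ Submodule.span A (Set.range (D k A)) := KaehlerDifferential.span_range_derivation k A ▸ trivial
          induction hm using Submodule.span_induction with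
          | mem z hz => obtain ⟨a, rfl⟩ := hz; rw [KaehlerDifferential.map_D]; exact Submodule.subset_span ⟨a, rfl⟩
          | zero => rw [map_zero]; exact zero_mem _
          | add _ _ _ _ h h' => rw [map_add]; exact add_mem h h'
          | smul c _ _ h => rw [map_smul, ← algebraMap_smul T c]; exact Submodule.smul_mem _ _ h
        | smul c _ h => exact Submodule.smul_mem _ _ h
        | add _ _ h h' => exact add_mem h h'
      induction hw using Submodule.span_induction with
      | mem z hz => obtain ⟨a, rfl⟩ := hz; exact Submodule.subset_span ⟨a, rfl⟩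
      | zero => simp only [map_zero, Finsupp.zero_apply]; exact zero_mem _
      | add y z _ _ h h' =>
        simp only [map_add, Finsupp.add_apply]
        exact add_mem h h'
      | smul c y _ h =>
        simp only [map_smul, Finsupp.smul_apply, smul_eq_mul, map_mul]
        exact Submodule.smul_mem _ (pT c) h
    intro v
    have hv : v ∈ Submodule.span k (Set.range δ) := by
      have e : (fun l => pT (b.repr (∑ i, algebraMap k T (v i) • b i) l)) = v := by
        funext l
        rw [b.repr_sum_self]
        exact pT.commutes _
      rw [← e]; exact hspanT _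
    rw [← LinearMap.coe_range, ← Submodule.span_eq (LinearMap.range δ)] at hv
    rw [Submodule.span_eq, Submodule.span_eq] at hv
    obtain ⟨a, rfl⟩ := hv
    refine ⟨⟨a - algebraMap k A (p a), by simp [I, RingHom.mem_ker]⟩, ?_⟩
    show δ (a - algebraMap k A (p a)) = δ a
    rw [map_sub, sub_eq_self, Algebra.algebraMap_eq_smul_one, map_smul]
    refine (congrArg _ (funext fun l => ?_ : δ 1 = 0)).trans (smul_zero _)
    show pT (b.repr (D k T (algebraMap A T 1)) l) = 0
    rw [map_one, Derivation.map_one_eq_zero, map_zero, Finsupp.zero_apply, map_zero]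
  let tc : I →ₗ[k] I.Cotangent := I.toCotangent.restrictScalars k
  have htc : LinearMap.ker tc = LinearMap.ker L0 := by
    refine Submodule.ext fun a => ?_
    rw [LinearMap.mem_ker, LinearMap.mem_ker]
    exact (Ideal.toCotangent_eq_zero _ a).trans (hker _ a.2).symm
  exact ⟨(tc.quotKerEquivOfSurjective I.toCotangent_surjective).symm ≪≫ₗ Submodule.quotEquivOfEq _ _ htc ≪≫ₗ
    L0.quotKerEquivOfSurjective hL0⟩

end Groth.Agent.OqsLib
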